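import Groth.Prelude.Def_EGA43
import Groth.Prelude.Def_CAlg2
import Mathlib.FieldTheory.Minpoly.IsIntegrallyClosed
import Mathlib.RingTheory.Spectrum.Prime.Chevalley
import Mathlib.RingTheory.Spectrum.Prime.Homeomorph
import Mathlib.RingTheory.Finiteness.ModuleFinitePresentation
import Mathlib.RingTheory.ZariskisMainTheorem
import Mathlib.RingTheory.Localization.Integral

/-!
# Openness of integral and quasi-finite ring maps at unibranch points
-/

set_option autoImplicit false
set_option linter.style.haveILetI false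

namespace Groth.Agent.UnibranchOpenLib

universe u

/-- The reduction of a localization is a localization of the reduction. -/
theorem isLocalization_red {R A : Type u} [CommRing R] [CommRing A] (π : R →+* A)
    (hπ : Function.Surjective π) (hker : ∀ a, π a = 0 ↔ IsNilpotent a)
    (p : Ideal A) [p.IsPrime] (O : Type u) [CommRing O] [Algebra R O]
    [IsLocalization.AtPrime O (p.comap π)] [Algebra A (CAlg2.red O)]
    (h : ∀ a, algebraMap A (CAlg2.red O) (π a) = Ideal.Quotient.mk (nilradical O) (algebraMap R O a)) :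
    IsLocalization.AtPrime (CAlg2.red O) p := by
  refine { map_units := ?_, surj := ?_, exists_of_eq := ?_ }
  · rintro ⟨s, hs⟩
    obtain ⟨t, rfl⟩ := hπ s
    show IsUnit (algebraMap A (CAlg2.red O) (π t))
    rw [h]
    exact (IsLocalization.map_units O (⟨t, hs⟩ : (p.comap π).primeCompl)).map _
  · intro z
    obtain ⟨w, rfl⟩ := Ideal.Quotient.mk_surjective z
    obtain ⟨⟨a, t⟩, hat⟩ := IsLocalization.surj (p.comap π).primeCompl w
    refine ⟨⟨π a, ⟨π t.1, t.2⟩⟩, ?_⟩
    show Ideal.Quotient.mk _ w * algebraMap A (CAlg2.red O) (π t.1) = algebraMap A (CAlg2.red O) (π a)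
    rw [h, h, ← map_mul, hat]
  · intro a b hab
    obtain ⟨a, rfl⟩ := hπ a
    obtain ⟨b, rfl⟩ := hπ b
    rw [h, h, Ideal.Quotient.eq, ← map_sub] at hab
    obtain ⟨n, hn⟩ := mem_nilradical.1 hab
    rw [← map_pow] at hn
    obtain ⟨t, ht⟩ := (IsLocalization.map_eq_zero_iff (p.comap π).primeCompl O _).1 hn
    refine ⟨⟨π t.1, t.2⟩, ?_⟩
    have hnil : IsNilpotent (t.1 * (a - b)) := by
      refine ⟨n + 1, ?_⟩
      have : (t.1 * (a - b)) ^ (n + 1) = t.1 ^ n * (a - b) * (t.1 * (a - b) ^ n) := by
        rw [mul_pow, pow_succ, pow_succ]; ring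
      rw [this, ht, mul_zero]
    have := (hker _).2 hnil
    rw [map_mul, map_sub, mul_sub, sub_eq_zero] at this
    exact this

/-- Over a point with unibranch local ring there is only one prime of the normalization. -/
theorem unique_prime_over {A : Type u} [CommRing A] [IsDomain A] (p : Ideal A) [p.IsPrime]
    (O : Type u) [CommRing O] [IsDomain O] [Algebra A O] [IsLocalization.AtPrime O p]
    (h : IsLocalRing (integralClosure O (FractionRing O)))
    (P₁ P₂ : Ideal (integralClosure A (FractionRing O))) [P₁.IsPrime] [P₂.IsPrime]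
    (h₁ : P₁.comap (algebraMap A _) = p) (h₂ : P₂.comap (algebraMap A _) = p) : P₁ = P₂ := by
  haveI := h
  haveI : IsLocalRing O := IsLocalization.AtPrime.isLocalRing O p
  let K := FractionRing O
  haveI : IsScalarTower A O K := (inferInstance : IsScalarTower A O (FractionRing O))
  let D := integralClosure A K
  let E := integralClosure O K
  letI : Algebra D E :=
    (D.val.toRingHom.codRestrict E.toSubring fun d =>
      (d.2.tower_top : IsIntegral O (d : K))).toAlgebra
  haveI : IsScalarTower D E K := IsScalarTower.of_algebraMap_eq fun d => rfl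
  haveI : IsScalarTower A D E := IsScalarTower.of_algebraMap_eq fun a =>
    Subtype.ext ((IsScalarTower.algebraMap_apply A O K a).trans (rfl))
  haveI : IsLocalization (Algebra.algebraMapSubmonoid K p.primeCompl) K :=
    IsLocalization.self fun x hx => by
      obtain ⟨a, ha, rfl⟩ := hx
      rw [IsScalarTower.algebraMap_apply A O K]
      exact (IsLocalization.map_units O (⟨a, ha⟩ : p.primeCompl)).map _
  let M := Algebra.algebraMapSubmonoid D p.primeCompl
  haveI : IsLocalization M E := IsLocalization.integralClosure (S := K) (Sf := K) p.primeCompl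
  have key : ∀ P : Ideal D, P.IsPrime → P.comap (algebraMap A _) = p →
      P.map (algebraMap D E) = IsLocalRing.maximalIdeal E ∧ (P.map (algebraMap D E)).comap (algebraMap D E) = P := by
    intro P hP hPp
    have hdisj : Disjoint (M : Set D) P := Set.disjoint_left.2 fun d hd hdP => by
      obtain ⟨a, ha, rfl⟩ := hd
      exact ha (hPp ▸ hdP)
    haveI := IsLocalization.isPrime_of_isPrime_disjoint M E P hP hdisj
    have hcc : (P.map (algebraMap D E)).comap (algebraMap D E) = P :=
      IsLocalization.under_map_of_isPrime_disjoint M E hP hdisj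
    refine ⟨IsLocalRing.eq_maximalIdeal (Ideal.isMaximal_of_isIntegral_of_isMaximal_comap (R := O) _ ?_), hcc⟩
    suffices (P.map (algebraMap D E)).comap (algebraMap O E) = IsLocalRing.maximalIdeal O by
      rw [this]; exact IsLocalRing.maximalIdeal.isMaximal O
    refine le_antisymm (IsLocalRing.le_maximalIdeal_of_isPrime _) ?_
    rw [← IsLocalization.AtPrime.map_eq_maximalIdeal p O, Ideal.map_le_iff_le_comap, Ideal.comap_comap,
      ← IsScalarTower.algebraMap_eq, IsScalarTower.algebraMap_eq A D E, ← Ideal.comap_comap, hcc, hPp]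
  rw [← (key P₁ inferInstance h₁).2, ← (key P₂ inferInstance h₂).2, (key P₁ inferInstance h₁).1,
    (key P₂ inferInstance h₂).1]

open PrimeSpectrum in
set_option maxHeartbeats 1000000 in
/-- An integral extension of domains maps basic opens to neighbourhoods of unibranch points. -/
theorem comap_image_mem_nhds {A B : Type u} [CommRing A] [IsDomain A] [CommRing B] [IsDomain B] [Algebra A B]
    (hinj : Function.Injective (algebraMap A B)) [Algebra.IsIntegral A B] (q : PrimeSpectrum B)
    (p : Ideal A) [p.IsPrime] (hqp : q.asIdeal.comap (algebraMap A B) = p)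
    (O : Type u) [CommRing O] [IsDomain O] [Algebra A O] [IsLocalization.AtPrime O p]
    (h : IsLocalRing (integralClosure O (FractionRing O))) (g : B) (hg : g ∉ q.asIdeal) :
    PrimeSpectrum.comap (algebraMap A B) '' (basicOpen g : Set (PrimeSpectrum B)) ∈
      nhds (PrimeSpectrum.comap (algebraMap A B) q) := by
  let K := FractionRing O
  haveI : IsScalarTower A O K := (inferInstance : IsScalarTower A O (FractionRing O))
  haveI : IsFractionRing A K := by
    have hi : Function.Injective (algebraMap A K) := by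
      rw [IsScalarTower.algebraMap_eq A O K]
      exact (IsFractionRing.injective O K).comp (IsLocalization.injective O p.primeCompl_le_nonZeroDivisors)
    haveI : FaithfulSMul A K := (faithfulSMul_iff_algebraMap_injective _ _).2 hi
    refine IsFractionRing.of_field A K fun z => ?_
    obtain ⟨a, b, hb, rfl⟩ := IsFractionRing.div_surjective O z
    obtain ⟨⟨a₁, s⟩, ha⟩ := IsLocalization.surj p.primeCompl a
    obtain ⟨⟨b₁, t⟩, hbt⟩ := IsLocalization.surj p.primeCompl b
    have hne : ∀ u : p.primeCompl, algebraMap A K u.1 ≠ 0 := fun u h0 =>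
      u.2 (by rw [hi (h0.trans (map_zero _).symm)]; exact zero_mem _)
    refine ⟨a₁ * t.1, b₁ * s.1, ?_⟩
    have ha' := congrArg (algebraMap O K) ha
    have hb' := congrArg (algebraMap O K) hbt
    simp only [map_mul, ← IsScalarTower.algebraMap_apply] at ha' hb'
    have hb0 : algebraMap O K b ≠ 0 := IsFractionRing.to_map_ne_zero_of_mem_nonZeroDivisors hb
    rw [map_mul, map_mul, ← ha', ← hb']
    have h1 := hne s
    have h2 := hne t
    rw [show algebraMap O K a * algebraMap A K s * algebraMap A K t = algebraMap O K a * (algebraMap A K s * algebraMap A K t) by ring,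
      show algebraMap O K b * algebraMap A K t * algebraMap A K s = algebraMap O K b * (algebraMap A K s * algebraMap A K t) by ring,
      mul_div_mul_right _ _ (mul_ne_zero h1 h2)]
  let D := integralClosure A K
  haveI : IsFractionRing D K := integralClosure.isFractionRing_of_finite_extension K K
  haveI : IsIntegrallyClosed D := integralClosure.isIntegrallyClosedOfFiniteExtension K
  let L := FractionRing B
  have hAL : Function.Injective (algebraMap A L) := by
    rw [IsScalarTower.algebraMap_eq A B L]
    exact (IsFractionRing.injective B L).comp hinj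
  let j : K →+* L := IsFractionRing.lift hAL
  let jA : K →ₐ[A] L := { j with commutes' := fun a => IsFractionRing.lift_algebraMap hAL a }
  let B' := integralClosure A L
  let δ : D →ₐ[A] B' := (jA.comp D.val).codRestrict B' fun d => (d.2 : IsIntegral A (d : K)).map jA
  let γ : B →ₐ[A] B' := (IsScalarTower.toAlgHom A B L).codRestrict B' fun b =>
    (Algebra.IsIntegral.isIntegral (R := A) b).map _
  have hδ : Function.Injective δ := fun a b hab => Subtype.ext (j.injective (congrArg Subtype.val hab))
  have hγ : Function.Injective γ := fun a b hab => IsFractionRing.injective B L (congrArg Subtype.val hab)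
  letI : Algebra B B' := γ.toRingHom.toAlgebra
  haveI : IsScalarTower A B B' := IsScalarTower.of_algebraMap_eq fun a => (γ.commutes a).symm
  letI : Algebra D B' := δ.toRingHom.toAlgebra
  haveI : IsScalarTower A D B' := IsScalarTower.of_algebraMap_eq fun a => (δ.commutes a).symm
  haveI : FaithfulSMul D B' := (faithfulSMul_iff_algebraMap_injective _ _).2 hδ
  haveI : Algebra.IsIntegral B B' := Algebra.IsIntegral.tower_top (R := A)
  haveI : Algebra.IsIntegral D B' := Algebra.IsIntegral.tower_top (R := A)
  obtain ⟨q', hq'p, hq'⟩ := Ideal.exists_ideal_over_prime_of_isIntegral_of_isDomain (S := B') q.asIdeal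
    (by rw [show RingHom.ker (algebraMap B B') = ⊥ from (RingHom.injective_iff_ker_eq_bot _).1 hγ]; exact bot_le)
  let g' : B' := γ g
  have hg'int : IsIntegral D g' := Algebra.IsIntegral.isIntegral g'
  let C := Algebra.adjoin D ({g'} : Set B')
  haveI : Module.Free D C := Module.Free.of_basis (Algebra.adjoin.powerBasis' hg'int).basis
  haveI : Module.Finite D C := (Algebra.adjoin.powerBasis' hg'int).finite
  haveI : Module.FinitePresentation D C := Module.finitePresentation_of_projective D C
  haveI : Algebra.FinitePresentation D C := Algebra.FinitePresentation.of_finitePresentation ↥D ↥C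
  haveI : Module.Flat D C := inferInstance
  let gC : C := ⟨g', Algebra.subset_adjoin rfl⟩
  let W : Set (PrimeSpectrum D) :=
    PrimeSpectrum.comap (algebraMap D C) '' (basicOpen gC : Set (PrimeSpectrum C))
  have hW : IsOpen W := isOpenMap_comap_of_hasGoingDown_of_finitePresentation (R := ↥D) (S := ↥C) _ (basicOpen gC).2
  have hADint : (algebraMap A D).IsIntegral := fun d => (isIntegral_algHom_iff D.val Subtype.val_injective).1 d.2
  haveI : Algebra.IsIntegral A D := ⟨hADint⟩
  let T : Set (PrimeSpectrum A) := (PrimeSpectrum.comap (algebraMap A D) '' Wᶜ)ᶜ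
  have hT : IsOpen T :=
    ((isClosedMap_comap_of_isIntegral _ hADint) _ hW.isClosed_compl).isOpen_compl
  have hq'D : q'.comap (algebraMap A B') = p := by
    rw [IsScalarTower.algebraMap_eq A B B', ← Ideal.comap_comap]
    exact (congrArg _ hq').trans hqp
  have hpT : PrimeSpectrum.comap (algebraMap A B) q ∈ T := by
    rintro ⟨d, hdW, hd⟩
    have hd' : d.asIdeal.comap (algebraMap A D) = p :=
      (congrArg PrimeSpectrum.asIdeal hd).trans hqp
    haveI := hq'p
    have hd'' : d.asIdeal = q'.comap (algebraMap D B') :=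
      unique_prime_over p O h d.asIdeal _ hd'
        (by rw [Ideal.comap_comap, ← IsScalarTower.algebraMap_eq, hq'D])
    refine hdW ⟨⟨q'.comap C.val.toRingHom, Ideal.IsPrime.comap _⟩, ?_, ?_⟩
    · show gC ∉ q'.comap C.val.toRingHom
      intro hmem
      have : g ∈ q'.comap (algebraMap B B') := hmem
      rw [hq'] at this
      exact hg this
    · refine PrimeSpectrum.ext ?_
      rw [hd'']
      rfl
  refine Filter.mem_of_superset (hT.mem_nhds hpT) fun s hs => ?_
  obtain ⟨d, hdp, hd⟩ := Ideal.exists_ideal_over_prime_of_isIntegral_of_isDomain (S := D) s.asIdeal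
    (by rw [(RingHom.injective_iff_ker_eq_bot (algebraMap A D)).1
      fun a b hab => IsFractionRing.injective A K (congrArg Subtype.val hab)]; exact bot_le)
  have hdW : (⟨d, hdp⟩ : PrimeSpectrum D) ∈ W := by
    by_contra hnot
    exact hs ⟨_, hnot, PrimeSpectrum.ext hd⟩
  obtain ⟨c, hc, hcd⟩ := hdW
  haveI : Algebra.IsIntegral C B' := Algebra.IsIntegral.tower_top (R := D)
  obtain ⟨b', hb'p, hb'⟩ := Ideal.exists_ideal_over_prime_of_isIntegral_of_isDomain (R := ↥C) (S := ↥B') c.asIdeal
    (fun a ha => by
      rw [show a = 0 from Subtype.ext ha]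
      exact zero_mem _)
  refine ⟨⟨b'.comap (algebraMap B B'), Ideal.IsPrime.comap _⟩, ?_, PrimeSpectrum.ext ?_⟩
  · show g ∉ b'.comap (algebraMap B B')
    intro hmem
    refine hc ?_
    show gC ∈ c.asIdeal
    rw [← hb']
    exact hmem
  · show (b'.comap (algebraMap B B')).comap (algebraMap A B) = s.asIdeal
    rw [Ideal.comap_comap, ← IsScalarTower.algebraMap_eq, ← hd, IsScalarTower.algebraMap_eq A D B',
      ← Ideal.comap_comap, show d = c.asIdeal.comap (algebraMap D C) from
        (congrArg PrimeSpectrum.asIdeal hcd).symm, ← hb', Ideal.comap_comap]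
    rfl

/-- Openness at a point of an integral extension of domains over a unibranch point. -/
theorem isOpenAt_of_isIntegral {A B : Type u} [CommRing A] [IsDomain A] [CommRing B] [IsDomain B] [Algebra A B]
    (hinj : Function.Injective (algebraMap A B)) [Algebra.IsIntegral A B] (q : PrimeSpectrum B)
    (h : CAlg2.IsUnibranch (Localization.AtPrime (q.asIdeal.comap (algebraMap A B)))) :
    EGA43.IsOpenAt (PrimeSpectrum.comap (algebraMap A B)) q := by
  obtain ⟨hdom, hloc⟩ := h
  haveI := hdom
  let p := q.asIdeal.comap (algebraMap A B)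
  let O := Localization.AtPrime p
  letI : Algebra A (CAlg2.red O) := ((Ideal.Quotient.mk (nilradical O)).comp (algebraMap A O)).toAlgebra
  haveI : IsLocalization.AtPrime O (p.comap (RingHom.id A)) := (inferInstance : IsLocalization.AtPrime O p)
  haveI : IsLocalization.AtPrime (CAlg2.red O) p := isLocalization_red (RingHom.id A) Function.surjective_id
    (fun a => (isNilpotent_iff_eq_zero (R := A)).symm) p O fun a => rfl
  intro U hU
  obtain ⟨_, ⟨g, rfl⟩, hqg, hgU⟩ :=
    PrimeSpectrum.isTopologicalBasis_basic_opens.mem_nhds_iff.1 hU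
  exact Filter.mem_of_superset (comap_image_mem_nhds hinj q p rfl (CAlg2.red O) hloc g hqg)
    (Set.image_mono hgU)

set_option maxHeartbeats 1000000 in
/-- Openness at a quasi-finite point over a unibranch point. -/
theorem isOpenAt_of_quasiFiniteAt {R S : Type u} [CommRing R] [CommRing S] [Algebra R S]
    [Algebra.FiniteType R S] (hR : (nilradical R).IsPrime) (hS : (nilradical S).IsPrime)
    (hdom : (nilradical S).comap (algebraMap R S) ≤ nilradical R) (q : PrimeSpectrum S)
    [Algebra.QuasiFiniteAt R q.asIdeal] (O : Type u) [CommRing O] [IsLocalRing O] [Algebra R O]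
    [IsLocalization.AtPrime O (q.asIdeal.comap (algebraMap R S))] (h : CAlg2.IsUnibranch O) :
    EGA43.IsOpenAt (PrimeSpectrum.comap (algebraMap R S)) q := by
  obtain ⟨hOdom, hloc⟩ := h
  haveI := hOdom
  haveI := hR
  haveI := hS
  let A := R ⧸ nilradical R
  let πA : R →+* A := Ideal.Quotient.mk _
  let S₀ := integralClosure R S
  let N : Ideal S₀ := (nilradical S).comap S₀.val.toRingHom
  haveI : N.IsPrime := Ideal.IsPrime.comap _
  let B := S₀ ⧸ N
  haveI : IsDomain B := Ideal.Quotient.isDomain N
  haveI : IsDomain A := Ideal.Quotient.isDomain (nilradical R)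
  let φ : A →+* B := Ideal.Quotient.lift _ ((Ideal.Quotient.mk N).comp (algebraMap R S₀)) fun a ha =>
    (IsNilpotent.map ha ((Ideal.Quotient.mk N).comp (algebraMap R S₀))).eq_zero
  have hφ : Function.Injective φ := RingHom.lift_injective_of_ker_le_ideal _ _ fun a ha =>
    hdom (show algebraMap R S a ∈ nilradical S from (Ideal.Quotient.eq_zero_iff_mem (I := N)).1 ha)
  letI : Algebra A B := φ.toAlgebra
  haveI : Algebra.IsIntegral A B := ⟨fun b => by
    obtain ⟨b, rfl⟩ := Ideal.Quotient.mk_surjective b
    obtain ⟨P, hP, hPb⟩ : IsIntegral R b := (isIntegral_algHom_iff S₀.val Subtype.val_injective).1 b.2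
    refine ⟨P.map πA, hP.map _, ?_⟩
    rw [Polynomial.eval₂_map, show (algebraMap A B).comp πA = (Ideal.Quotient.mk N).comp (algebraMap R S₀) from rfl,
      ← Polynomial.hom_eval₂, hPb, map_zero]⟩
  let q₀ : PrimeSpectrum B := ⟨(q.asIdeal.comap S₀.val.toRingHom).map (Ideal.Quotient.mk N),
    Ideal.map_isPrime_of_surjective Ideal.Quotient.mk_surjective
      (by rw [Ideal.mk_ker]; exact Ideal.comap_mono (nilradical_le_prime _))⟩
  have hq₀ : q₀.asIdeal.comap (Ideal.Quotient.mk N) = q.asIdeal.comap S₀.val.toRingHom :=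
    (Ideal.comap_map_of_surjective _ Ideal.Quotient.mk_surjective _).trans (by
      rw [← RingHom.ker_eq_comap_bot, Ideal.mk_ker, sup_eq_left]
      exact Ideal.comap_mono (nilradical_le_prime _))
  let p : Ideal A := q₀.asIdeal.comap (algebraMap A B)
  have hp : p.comap πA = q.asIdeal.comap (algebraMap R S) := by
    rw [Ideal.comap_comap, show (algebraMap A B).comp πA = (Ideal.Quotient.mk N).comp (algebraMap R S₀) from rfl,
      ← Ideal.comap_comap, hq₀, Ideal.comap_comap]
    rfl
  haveI : p.IsPrime := q₀.isPrime.comap _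
  haveI : IsLocalization.AtPrime O (p.comap πA) := by
    have e : (p.comap πA).primeCompl = (q.asIdeal.comap (algebraMap R S)).primeCompl := by
      ext x
      show x ∉ p.comap πA ↔ x ∉ q.asIdeal.comap (algebraMap R S)
      rw [hp]
    show IsLocalization (p.comap πA).primeCompl O
    rw [e]; infer_instance
  letI : Algebra A (CAlg2.red O) := (Ideal.Quotient.lift (nilradical R)
    ((Ideal.Quotient.mk (nilradical O)).comp (algebraMap R O)) fun a ha =>
      (IsNilpotent.map ha ((Ideal.Quotient.mk (nilradical O)).comp (algebraMap R O))).eq_zero).toAlgebra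
  haveI : IsLocalization.AtPrime (CAlg2.red O) p := isLocalization_red πA Ideal.Quotient.mk_surjective
    (fun a => Ideal.Quotient.eq_zero_iff_mem.trans mem_nilradical) p O fun a => rfl
  intro U hU
  obtain ⟨_, ⟨g, rfl⟩, hqg, hgU⟩ :=
    PrimeSpectrum.isTopologicalBasis_basic_opens.mem_nhds_iff.1 hU
  obtain ⟨r, hr, hri, hx⟩ := Algebra.zariskisMainProperty_iff.1
    (Algebra.ZariskisMainProperty.of_finiteType (R := R) q.asIdeal)
  obtain ⟨m, hm⟩ := hx g
  let r₀ : S₀ := ⟨r, hri⟩
  let g₀ : S₀ := ⟨r * (r ^ m * g), hri.mul hm⟩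
  have hg₀ : Ideal.Quotient.mk N g₀ ∉ q₀.asIdeal := fun hmem => by
    have : g₀ ∈ q₀.asIdeal.comap (Ideal.Quotient.mk N) := hmem
    rw [hq₀] at this
    rcases q.isPrime.mem_or_mem (this : r * (r ^ m * g) ∈ q.asIdeal) with h1 | h1
    · exact hr h1
    · rcases q.isPrime.mem_or_mem h1 with h2 | h2
      · exact hr (q.isPrime.mem_of_pow_mem _ h2)
      · exact hqg h2
  have hN : PrimeSpectrum.comap πA '' (PrimeSpectrum.comap (algebraMap A B) ''
      (PrimeSpectrum.basicOpen (Ideal.Quotient.mk N g₀) : Set (PrimeSpectrum B))) ∈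
      nhds (PrimeSpectrum.comap (algebraMap R S) q) := by
    have h1 := comap_image_mem_nhds hφ q₀ p rfl (CAlg2.red O) hloc _ hg₀
    have hhom : IsHomeomorph (PrimeSpectrum.comap πA) := by
      refine PrimeSpectrum.isHomeomorph_comap _ (fun a => ?_) ?_
      · obtain ⟨b, rfl⟩ := Ideal.Quotient.mk_surjective a
        exact ⟨1, one_pos, b, by rw [pow_one]⟩
      · rw [Ideal.mk_ker]
    have h2 := hhom.isOpenMap.image_mem_nhds h1
    convert h2 using 2
    exact PrimeSpectrum.ext hp.symm
  refine Filter.mem_of_superset hN ?_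
  rintro _ ⟨_, ⟨b, hb, rfl⟩, rfl⟩
  let b₀ : Ideal S₀ := b.asIdeal.comap (Ideal.Quotient.mk N)
  have hb₀ : g₀ ∉ b₀ := hb
  have hrb : r₀ ∉ b₀ := fun hmem => hb₀ <| by
    have : g₀ = r₀ * ⟨r ^ m * g, hm⟩ := rfl
    rw [this]
    exact b₀.mul_mem_right _ hmem
  let P : Ideal S :=
    { carrier := {s | ∃ k, ∃ h : IsIntegral R (r ^ k * s), (⟨r ^ k * s, h⟩ : S₀) ∈ b₀}
      zero_mem' := ⟨0, by simpa using isIntegral_zero, by
        convert b₀.zero_mem using 1
        exact Subtype.ext (mul_zero _)⟩
      add_mem' := by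
        rintro s t ⟨k, hk, hks⟩ ⟨l, hl, hlt⟩
        have e : r ^ (k + l) * (s + t) = r ^ l * (r ^ k * s) + r ^ k * (r ^ l * t) := by ring
        refine ⟨k + l, e ▸ ((hri.pow l).mul hk).add ((hri.pow k).mul hl), ?_⟩
        convert b₀.add_mem (b₀.mul_mem_left (r₀ ^ l) hks) (b₀.mul_mem_left (r₀ ^ k) hlt) using 1
        exact Subtype.ext e
      smul_mem' := by
        rintro c s ⟨k, hk, hks⟩
        obtain ⟨l, hl⟩ := hx c
        have e : r ^ (k + l) * (c * s) = r ^ l * c * (r ^ k * s) := by ring
        refine ⟨k + l, e ▸ hl.mul hk, ?_⟩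
        convert b₀.mul_mem_left ⟨r ^ l * c, hl⟩ hks using 1
        exact Subtype.ext e }
  have hP₀ : ∀ s : S₀, (s : S) ∈ P ↔ s ∈ b₀ := by
    intro s
    constructor
    · rintro ⟨k, hk, hks⟩
      have : (⟨r ^ k * s, hk⟩ : S₀) = r₀ ^ k * s := Subtype.ext rfl
      rw [this] at hks
      exact ((b.isPrime.comap _).mem_or_mem hks).resolve_left fun h' =>
        hrb ((b.isPrime.comap _).mem_of_pow_mem _ h')
    · intro hs
      refine ⟨0, by rw [pow_zero, one_mul]; exact s.2, ?_⟩
      convert hs using 1
      exact Subtype.ext (by simp)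
  haveI hPp : P.IsPrime := by
    refine ⟨fun htop => ?_, fun {s t} hst => ?_⟩
    · have h1 : (1 : S₀) ∈ b₀ := (hP₀ 1).1 (by rw [htop]; exact Submodule.mem_top)
      exact (b.isPrime.comap _).ne_top ((Ideal.eq_top_iff_one _).2 h1)
    · obtain ⟨k, hk⟩ := hx s
      obtain ⟨l, hl⟩ := hx t
      have h1 : r ^ k * s * (r ^ l * t) ∈ P := by
        rw [show r ^ k * s * (r ^ l * t) = r ^ k * r ^ l * (s * t) by ring]
        exact P.mul_mem_left _ hst
      rcases (b.isPrime.comap _).mem_or_mem
        ((hP₀ (⟨_, hk⟩ * ⟨_, hl⟩ : S₀)).1 h1) with h2 | h2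
      · exact Or.inl ⟨k, hk, h2⟩
      · exact Or.inr ⟨l, hl, h2⟩
  refine ⟨⟨P, hPp⟩, hgU ?_, PrimeSpectrum.ext ?_⟩
  · show g ∉ P
    intro hgP
    exact hb₀ ((hP₀ g₀).1 (P.mul_mem_left r (P.mul_mem_left (r ^ m) hgP)))
  · ext a
    exact (hP₀ (algebraMap R S₀ a)).trans Iff.rfl

end Groth.Agent.UnibranchOpenLib
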